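import Groth.Agent.LC.AdjDepth
import Groth.Agent.Alg6.LocLoc
import Groth.Agent.S5752
import Mathlib.RingTheory.KrullDimension.Regular
import Mathlib.RingTheory.Ideal.AssociatedPrime.Localization

/-!
# Regular sequences and Serre's conditions
-/

set_option autoImplicit false

universe u

open IsLocalRing RingTheory.Sequence
open scoped Pointwise

namespace Groth.Agent.SkSeq

variable {R : Type u} [CommRing R] [IsNoetherianRing R]

theorem depth_quot_add_one (M : Type u) [AddCommGroup M] [Module R M] [Module.Finite R M] (p : Ideal R) [p.IsPrime]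
    {x : R} (hx : x ∈ p)
    (hreg : IsSMulRegular (LocalizedModule p.primeCompl M) (algebraMap R (Localization.AtPrime p) x)) :
    LocCoh.depth (Localization.AtPrime p) (LocalizedModule p.primeCompl (QuotSMulTop x M)) + 1 =
      LocCoh.depth (Localization.AtPrime p) (LocalizedModule p.primeCompl M) := by
  obtain ⟨e⟩ := LC.exists_localized_quotSMulTop M p x
  haveI : Module.Finite (Localization.AtPrime p) (LocalizedModule p.primeCompl M) :=
    Module.Finite.of_isLocalizedModule p.primeCompl (LocalizedModule.mkLinearMap _ M)
  haveI : Module.Finite (Localization.AtPrime p) (LocalizedModule p.primeCompl (QuotSMulTop x M)) :=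
    Module.Finite.of_isLocalizedModule p.primeCompl (LocalizedModule.mkLinearMap _ _)
  unfold LocCoh.depth
  rw [← LC.idealDepth_quotSMulTop_add_one (maximalIdeal (Localization.AtPrime p))
    ((Alg6.mem_maximalIdeal_iff p).2 hx) hreg]
  congr 1
  exact (LC.idealDepth_congr _ e).symm

theorem supportDim_quot_add_one (M : Type u) [AddCommGroup M] [Module R M] [Module.Finite R M] (p : Ideal R) [p.IsPrime]
    {x : R} (hx : x ∈ p)
    (hreg : IsSMulRegular (LocalizedModule p.primeCompl M) (algebraMap R (Localization.AtPrime p) x)) :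
    Module.supportDim (Localization.AtPrime p) (LocalizedModule p.primeCompl (QuotSMulTop x M)) + 1 =
      Module.supportDim (Localization.AtPrime p) (LocalizedModule p.primeCompl M) := by
  obtain ⟨e⟩ := LC.exists_localized_quotSMulTop M p x
  haveI : Module.Finite (Localization.AtPrime p) (LocalizedModule p.primeCompl M) :=
    Module.Finite.of_isLocalizedModule p.primeCompl (LocalizedModule.mkLinearMap _ M)
  rw [← Module.supportDim_quotSMulTop_succ_eq_supportDim_mem_jacobson hreg
      (IsLocalRing.maximalIdeal_le_jacobson _ ((Alg6.mem_maximalIdeal_iff p).2 hx)),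
    Module.supportDim_eq_of_equiv e]

theorem localized_congr {M N : Type u} [AddCommGroup M] [Module R M] [Module.Finite R M] [AddCommGroup N] [Module R N]
    [Module.Finite R N] (e : M ≃ₗ[R] N) (p : Ideal R) [p.IsPrime] :
    LocCoh.depth (Localization.AtPrime p) (LocalizedModule p.primeCompl M) =
        LocCoh.depth (Localization.AtPrime p) (LocalizedModule p.primeCompl N) ∧
      Module.supportDim (Localization.AtPrime p) (LocalizedModule p.primeCompl M) =
        Module.supportDim (Localization.AtPrime p) (LocalizedModule p.primeCompl N) := by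
  haveI : Module.Finite (Localization.AtPrime p) (LocalizedModule p.primeCompl M) :=
    Module.Finite.of_isLocalizedModule p.primeCompl (LocalizedModule.mkLinearMap _ M)
  haveI : Module.Finite (Localization.AtPrime p) (LocalizedModule p.primeCompl N) :=
    Module.Finite.of_isLocalizedModule p.primeCompl (LocalizedModule.mkLinearMap _ N)
  let g := IsLocalizedModule.mapEquiv p.primeCompl (LocalizedModule.mkLinearMap p.primeCompl M)
    (LocalizedModule.mkLinearMap p.primeCompl N) (Localization.AtPrime p) e
  exact ⟨LC.idealDepth_congr _ g, Module.supportDim_eq_of_equiv g⟩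

/-- Depth and dimension drop by the length of a regular sequence. -/
theorem drop_by_length (rs : List R) (M : Type u) [AddCommGroup M] [Module R M] [Module.Finite R M]
    (h : IsWeaklyRegular M rs) (p : Ideal R) [p.IsPrime] (hp : ∀ x ∈ rs, x ∈ p) :
    LocCoh.depth (Localization.AtPrime p)
          (LocalizedModule p.primeCompl (M ⧸ (Ideal.ofList rs • ⊤ : Submodule R M))) + (rs.length : ℕ∞) =
        LocCoh.depth (Localization.AtPrime p) (LocalizedModule p.primeCompl M) ∧
      Module.supportDim (Localization.AtPrime p)
          (LocalizedModule p.primeCompl (M ⧸ (Ideal.ofList rs • ⊤ : Submodule R M))) + (rs.length : WithBot ℕ∞) =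
        Module.supportDim (Localization.AtPrime p) (LocalizedModule p.primeCompl M) := by
  induction rs generalizing M with
  | nil =>
    have e : (M ⧸ (Ideal.ofList ([] : List R) • ⊤ : Submodule R M)) ≃ₗ[R] M :=
      Submodule.quotEquivOfEqBot _ (by rw [Ideal.ofList_nil, Submodule.bot_smul])
    rw [(localized_congr e p).1, (localized_congr e p).2]
    simp
  | cons x xs ih =>
    obtain ⟨hx, hxs⟩ := (isWeaklyRegular_cons_iff M x xs).1 h
    obtain ⟨h1, h2⟩ := ih (QuotSMulTop x M) hxs (fun y hy => hp y (List.mem_cons_of_mem _ hy))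
    have e := Submodule.quotOfListConsSMulTopEquivQuotSMulTopInner M x xs
    have hreg := Alg6.isSMulRegular_localized p hx
    have hxp := hp x List.mem_cons_self
    rw [(localized_congr e p).1, (localized_congr e p).2, List.length_cons]
    constructor
    · rw [← depth_quot_add_one M p hxp hreg, ← h1, Nat.cast_add, Nat.cast_one, add_assoc]
    · rw [← supportDim_quot_add_one M p hxp hreg, ← h2, Nat.cast_add, Nat.cast_one, add_assoc]

theorem le_of_mem_associatedPrimes (rs : List R) (M : Type u) [AddCommGroup M] [Module R M] {q : Ideal R}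
    (hq : q ∈ associatedPrimes R (M ⧸ (Ideal.ofList rs • ⊤ : Submodule R M))) : ∀ x ∈ rs, x ∈ q := by
  intro x hx
  refine hq.annihilator_le (Submodule.mem_annihilator.2 fun z _ => ?_)
  obtain ⟨m, rfl⟩ := Submodule.Quotient.mk_surjective _ z
  rw [← Submodule.Quotient.mk_smul, Submodule.Quotient.mk_eq_zero]
  exact Submodule.smul_mem_smul (Ideal.subset_span hx) Submodule.mem_top

theorem depth_eq_zero_of_ass (N : Type u) [AddCommGroup N] [Module R N] [Module.Finite R N] (q : Ideal R) [q.IsPrime] :
    LocCoh.depth (Localization.AtPrime q) (LocalizedModule q.primeCompl N) = 0 ↔ q ∈ associatedPrimes R N := by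
  haveI : Module.Finite (Localization.AtPrime q) (LocalizedModule q.primeCompl N) :=
    Module.Finite.of_isLocalizedModule q.primeCompl (LocalizedModule.mkLinearMap _ N)
  rw [S5752.result, ← Module.associatedPrimes.preimage_comap_associatedPrimes_eq_associatedPrimes_of_isLocalizedModule
    q.primeCompl (LocalizedModule.mkLinearMap q.primeCompl N) (R' := Localization.AtPrime q), Set.mem_preimage]
  exact iff_of_eq (congrArg (fun t => t ∈ associatedPrimes R N) Localization.AtPrime.under_maximalIdeal)

/-- A positive dimensional support at an associated prime contains an embedded prime. -/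
theorem supportDim_pos_iff_exists_ass (N : Type u) [AddCommGroup N] [Module R N] [Module.Finite R N] (q : Ideal R)
    [q.IsPrime] :
    0 < Module.supportDim (Localization.AtPrime q) (LocalizedModule q.primeCompl N) ↔
      ∃ p ∈ associatedPrimes R N, p < q := by
  haveI : Module.Finite (Localization.AtPrime q) (LocalizedModule q.primeCompl N) :=
    Module.Finite.of_isLocalizedModule q.primeCompl (LocalizedModule.mkLinearMap _ N)
  have hpre := Module.associatedPrimes.preimage_comap_associatedPrimes_eq_associatedPrimes_of_isLocalizedModule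
    q.primeCompl (LocalizedModule.mkLinearMap q.primeCompl N) (R' := Localization.AtPrime q)
  rw [Module.supportDim, Order.krullDim_pos_iff]
  constructor
  · rintro ⟨a, b, hab⟩
    have hann : Module.annihilator (Localization.AtPrime q) (LocalizedModule q.primeCompl N) ≤ a.1.asIdeal :=
      Module.annihilator_le_of_mem_support a.2
    obtain ⟨m, hm, hma⟩ := Ideal.exists_minimalPrimes_le hann
    have hm' := Module.associatedPrimes.minimalPrimes_annihilator_subset_associatedPrimes _ _ hm
    rw [← hpre] at hm'
    refine ⟨_, hm', lt_of_le_of_lt (Ideal.comap_mono hma) ?_⟩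
    have hlt : a.1.asIdeal < maximalIdeal (Localization.AtPrime q) :=
      lt_of_lt_of_le (show a.1.asIdeal < b.1.asIdeal from hab) (le_maximalIdeal b.1.isPrime.ne_top)
    have hle : a.1.asIdeal.comap (algebraMap R (Localization.AtPrime q)) ≤ q :=
      (Ideal.comap_mono hlt.le).trans_eq Localization.AtPrime.under_maximalIdeal
    refine lt_of_le_of_ne hle fun h => hlt.ne ?_
    rw [← IsLocalization.map_comap q.primeCompl (Localization.AtPrime q) a.1.asIdeal, Ideal.under_def, h,
      Localization.AtPrime.map_eq_maximalIdeal]
  · rintro ⟨p, hp, hpq⟩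
    haveI := hp.isPrime
    have hdisj : Disjoint (q.primeCompl : Set R) p := Set.disjoint_left.2 fun _ h1 h2 => h1 (hpq.le h2)
    let P := p.map (algebraMap R (Localization.AtPrime q))
    haveI hP : P.IsPrime := IsLocalization.isPrime_of_isPrime_disjoint q.primeCompl _ p inferInstance hdisj
    have hc : P.comap (algebraMap R (Localization.AtPrime q)) = p :=
      IsLocalization.under_map_of_isPrime_disjoint q.primeCompl _ inferInstance hdisj
    have hPass : P ∈ associatedPrimes (Localization.AtPrime q) (LocalizedModule q.primeCompl N) := by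
      rw [← hpre, Set.mem_preimage, hc]
      exact hp
    have hs : (⟨P, hP⟩ : PrimeSpectrum (Localization.AtPrime q)) ∈
        Module.support (Localization.AtPrime q) (LocalizedModule q.primeCompl N) :=
      Module.mem_support_iff_of_finite.2 (Submodule.annihilator_top.symm.trans_le hPass.annihilator_le)
    refine ⟨⟨_, hs⟩, ⟨closedPoint _, Module.mem_support_mono (p := ⟨P, hP⟩) (le_maximalIdeal hP.ne_top) hs⟩, ?_⟩
    refine lt_of_le_of_ne (le_maximalIdeal hP.ne_top) fun h => ?_
    have h' : P = maximalIdeal (Localization.AtPrime q) := congrArg PrimeSpectrum.asIdeal (congrArg Subtype.val h)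
    rw [h'] at hc
    exact hpq.ne (hc.symm.trans Localization.AtPrime.under_maximalIdeal)

omit [IsNoetherianRing R] in
theorem localized_quotSMulTop (S : Submonoid R) (M : Type u) [AddCommGroup M] [Module R M] (x : R) :
    Nonempty (QuotSMulTop x (LocalizedModule S M) ≃ₗ[R] LocalizedModule S (QuotSMulTop x M)) := by
  let f : M →ₗ[R] M := x • LinearMap.id
  let g : M →ₗ[R] QuotSMulTop x M := Submodule.mkQ _
  have hex : Function.Exact f g := fun z => by
    show Submodule.Quotient.mk z = (0 : QuotSMulTop x M) ↔ _
    rw [Alg6.mem_pointwise_smul_top_iff]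
    exact Iff.rfl
  have hexS := LocalizedModule.map_exact S f g hex
  have hfS : ∀ z, LocalizedModule.map S f z = x • z := by
    intro z
    induction z using LocalizedModule.induction_on with
    | h z s => rw [LocalizedModule.map_mk, LocalizedModule.smul'_mk]; rfl
  have hsurj := LocalizedModule.map_surjective S g (Submodule.mkQ_surjective _)
  refine ⟨(Submodule.quotEquivOfEq _ _ ?_).trans
    (LinearMap.quotKerEquivOfSurjective ((LocalizedModule.map S g).restrictScalars R) hsurj)⟩
  ext z
  refine Iff.trans ?_ (hexS z).symm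
  rw [← Submodule.Quotient.mk_eq_zero, Alg6.mem_pointwise_smul_top_iff]
  exact exists_congr fun w => Eq.congr_left (hfS w).symm

/-- Regular sequences at a prime spread out. -/
theorem exists_regular_list (P : Ideal R) [P.IsPrime] (r : ℕ) (M : Type u) [AddCommGroup M] [Module R M]
    [Module.Finite R M] (hd : LocCoh.depth (Localization.AtPrime P) (LocalizedModule P.primeCompl M) = r)
    (g : R) (hg : g ∉ P) :
    ∃ g' : R, g' ∉ P ∧ g ∣ g' ∧ ∃ xs : List R, xs.length = r ∧ (∀ x ∈ xs, x ∈ P) ∧
      IsWeaklyRegular (LocalizedModule (Submonoid.powers g') M) xs := by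
  induction r generalizing M g with
  | zero => exact ⟨g, hg, dvd_rfl, [], rfl, by simp, IsWeaklyRegular.nil _ _⟩
  | succ r ih =>
    have hP : P ∉ associatedPrimes R M := fun h => by
      rw [(depth_eq_zero_of_ass M P).2 h, ← Nat.cast_zero, Nat.cast_inj] at hd
      omega
    classical
    have hfin := associatedPrimes.finite R M
    obtain ⟨x, hxP, hxQ⟩ : ∃ x ∈ P, ∀ Q ∈ associatedPrimes R M, Q ≤ P → x ∉ Q := by
      by_contra hc
      push Not at hc
      have hsub : (P : Set R) ⊆ ⋃ Q ∈ ((hfin.toFinset.filter (fun Q => Q ≤ P)) : Set (Ideal R)), (Q : Set R) := by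
        intro x hx
        obtain ⟨Q, hQ, hQP, hxQ⟩ := hc x hx
        exact Set.mem_biUnion (by simpa using ⟨hQ, hQP⟩) hxQ
      obtain ⟨Q, hQ, hle⟩ := (Ideal.subset_union_prime ⊥ ⊥ (fun Q hQ _ _ => by
        simp only [Finset.mem_filter, Set.Finite.mem_toFinset] at hQ
        exact IsAssociatedPrime.isPrime hQ.1)).1 hsub
      simp only [Finset.mem_filter, Set.Finite.mem_toFinset] at hQ
      exact hP ((le_antisymm hle hQ.2) ▸ hQ.1)
    have hsel : ∀ Q ∈ associatedPrimes R M, ∃ a : R, a ∉ P ∧ (¬ Q ≤ P → a ∈ Q) := by
      intro Q _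
      by_cases h : Q ≤ P
      · exact ⟨1, fun h1 => ‹P.IsPrime›.ne_top ((Ideal.eq_top_iff_one _).2 h1), fun h' => absurd h h'⟩
      · obtain ⟨a, ha, haP⟩ := SetLike.not_le_iff_exists.1 h
        exact ⟨a, haP, fun _ => ha⟩
    choose! a ha haQ using hsel
    let g₀ := g * ∏ Q ∈ hfin.toFinset, a Q
    have hg₀ : g₀ ∉ P := by
      refine ‹P.IsPrime›.mul_notMem hg ?_
      rw [Ideal.IsPrime.prod_mem_iff]
      push Not
      exact fun Q hQ => ha Q (hfin.mem_toFinset.1 hQ)
    have hregP : IsSMulRegular (LocalizedModule P.primeCompl M) (algebraMap R (Localization.AtPrime P) x) := by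
      refine Alg6.isSMulRegular_iff_forall_ass.2 fun Q hQ hxQ' => ?_
      rw [← Module.associatedPrimes.preimage_comap_associatedPrimes_eq_associatedPrimes_of_isLocalizedModule
        P.primeCompl (LocalizedModule.mkLinearMap P.primeCompl M) (R' := Localization.AtPrime P)] at hQ
      refine hxQ _ hQ ((Ideal.comap_mono (le_maximalIdeal ?_)).trans_eq Localization.AtPrime.under_maximalIdeal) hxQ'
      rintro rfl
      exact (IsAssociatedPrime.isPrime hQ).ne_top (Ideal.comap_top)
    have hd' : LocCoh.depth (Localization.AtPrime P) (LocalizedModule P.primeCompl (QuotSMulTop x M)) = r := by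
      have := depth_quot_add_one M P hxP hregP
      rw [hd, Nat.cast_add, Nat.cast_one] at this
      exact WithTop.add_right_cancel ENat.one_ne_top this
    obtain ⟨g', hg', hdvd, xs, hlen, hxs, hreg⟩ := ih (QuotSMulTop x M) hd' g₀ hg₀
    refine ⟨g', hg', (dvd_mul_right _ _).trans hdvd, x :: xs, by simp [hlen], ?_, ?_⟩
    · rintro y (_ | ⟨_, hy⟩)
      exacts [hxP, hxs y hy]
    refine (isWeaklyRegular_cons_iff _ _ _).2 ⟨?_, ?_⟩
    · have h : IsSMulRegular (LocalizedModule (Submonoid.powers g') M) (algebraMap R (Localization.Away g') x) := by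
        refine Alg6.isSMulRegular_iff_forall_ass.2 fun Q hQ hxQ' => ?_
        rw [← Module.associatedPrimes.preimage_comap_associatedPrimes_eq_associatedPrimes_of_isLocalizedModule
          (Submonoid.powers g') (LocalizedModule.mkLinearMap (Submonoid.powers g') M) (R' := Localization.Away g')] at hQ
        have hQ' : ¬ Ideal.comap (algebraMap R (Localization.Away g')) Q ≤ P := fun h => hxQ _ hQ h hxQ'
        have hg0 : g₀ ∈ Ideal.comap (algebraMap R (Localization.Away g')) Q :=
          Ideal.mul_mem_left _ _ (Ideal.mem_of_dvd _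
            (Finset.dvd_prod_of_mem _ (hfin.mem_toFinset.2 hQ)) (haQ _ hQ hQ'))
        have hg'' : g' ∈ Ideal.comap (algebraMap R (Localization.Away g')) Q := Ideal.mem_of_dvd _ hdvd hg0
        have hQtop : Q = ⊤ := Ideal.eq_top_of_isUnit_mem _ hg'' (IsLocalization.Away.algebraMap_isUnit g')
        exact (IsAssociatedPrime.isPrime hQ).ne_top (by rw [hQtop, Ideal.comap_top])
      intro z w hzw
      exact h (by simpa only [algebraMap_smul] using hzw)
    · obtain ⟨e⟩ := localized_quotSMulTop (Submonoid.powers g') M x
      exact (e.isWeaklyRegular_congr xs).2 hreg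

end Groth.Agent.SkSeq
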